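import Mathlib
import Cfsg.Prelude.Def_Transfer

/-!
# Basic facts on `Cfsg.pResidual`
-/

namespace Cfsg.Agent.Lib.Helper8

theorem closure_normal_of_conj {G : Type*} [Group G] {S : Set G}
    (h : ∀ g : G, ∀ s ∈ S, g * s * g⁻¹ ∈ S) : (Subgroup.closure S).Normal := by
  constructor
  intro n hn g
  induction hn using Subgroup.closure_induction with
  | mem x hx => exact Subgroup.subset_closure (h g x hx)
  | one => simp
  | mul x y _ _ hx hy =>
    have : g * (x * y) * g⁻¹ = (g * x * g⁻¹) * (g * y * g⁻¹) := by group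
    rw [this]; exact mul_mem hx hy
  | inv x _ hx =>
    have : g * x⁻¹ * g⁻¹ = (g * x * g⁻¹)⁻¹ := by group
    rw [this]; exact inv_mem hx

theorem orderOf_conj' {G : Type*} [Group G] (g x : G) : orderOf (g * x * g⁻¹) = orderOf x := by
  have : g * x * g⁻¹ = MulAut.conj g x := rfl
  rw [this, MulEquiv.orderOf_eq]

theorem pResidual_normal (p : ℕ) (G : Type*) [Group G] : (Cfsg.pResidual p G).Normal := by
  apply closure_normal_of_conj
  intro g s hs
  show Nat.Coprime (orderOf (g * s * g⁻¹)) p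
  rw [orderOf_conj']; exact hs

theorem mem_pResidual_of_coprime {p : ℕ} {G : Type*} [Group G] {g : G}
    (h : Nat.Coprime (orderOf g) p) : g ∈ Cfsg.pResidual p G :=
  Subgroup.subset_closure h

/-- a homomorphism to a `p`-group kills `O^p`. -/
theorem pResidual_le_ker {p : ℕ} {G A : Type*} [Group G] [Group A] (hA : IsPGroup p A)
    (f : G →* A) : Cfsg.pResidual p G ≤ f.ker := by
  unfold Cfsg.pResidual
  rw [Subgroup.closure_le]
  intro g hg
  have hg' : Nat.Coprime (orderOf g) p := hg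
  show f g = 1
  obtain ⟨k, hk⟩ := hA (f g)
  have h1 : orderOf (f g) ∣ p ^ k := orderOf_dvd_of_pow_eq_one hk
  have h2 : orderOf (f g) ∣ orderOf g := orderOf_map_dvd f g
  exact orderOf_eq_one_iff.mp (Nat.eq_one_of_dvd_coprimes (Nat.Coprime.pow_right k hg') h2 h1)

/-- `x ^ m ∈ O^p` where `p ^ e` ... : the `p`-power power of an element lies in `O^p`. -/
theorem exists_pow_mem_pResidual {p : ℕ} (hp : p.Prime) {G : Type*} [Group G] [Finite G] (x : G) :
    ∃ e : ℕ, x ^ (p ^ e) ∈ Cfsg.pResidual p G := by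
  obtain ⟨e, m, hm, hn⟩ := Nat.exists_eq_pow_mul_and_not_dvd (orderOf_pos x).ne' p hp.ne_one
  refine ⟨e, mem_pResidual_of_coprime ?_⟩
  have h1 : orderOf (x ^ (p ^ e)) ∣ m := by
    apply orderOf_dvd_of_pow_eq_one
    rw [← pow_mul, ← hn, pow_orderOf_eq_one]
  exact Nat.Coprime.coprime_dvd_left h1 ((Nat.Prime.coprime_iff_not_dvd hp).mpr hm).symm

/-- the `p'`-part power of an element is a `p`-element. -/
theorem exists_coprime_pow_pElement {p : ℕ} (hp : p.Prime) {G : Type*} [Group G] [Finite G] (x : G) :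
    ∃ m e : ℕ, Nat.Coprime m p ∧ (x ^ m) ^ (p ^ e) = 1 := by
  obtain ⟨e, m, hm, hn⟩ := Nat.exists_eq_pow_mul_and_not_dvd (orderOf_pos x).ne' p hp.ne_one
  refine ⟨m, e, ((Nat.Prime.coprime_iff_not_dvd hp).mpr hm).symm, ?_⟩
  rw [← pow_mul, mul_comm, ← hn, pow_orderOf_eq_one]

end Cfsg.Agent.Lib.Helper8
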