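import Mathlib
import Cfsg.Agent.Lib.Helper8.IndexTwo
import Cfsg.Agent.Lib.Helper8.Transfer2

/-!
# Transfer into an abelian Sylow subgroup: invariant elements
-/

namespace Cfsg.Agent.Lib.Helper8

open scoped IsMulCommutative

variable {G : Type*} [Group G] [Finite G] {p : ℕ} [Fact p.Prime]

/-- If the Sylow `p`-subgroup `S` is abelian and `c ∈ S`, `c ≠ 1`, is centralised by `N_G(S)`, then
`G` has a subgroup of index `p`. -/
theorem exists_index_of_invariant (S : Sylow p G) [IsMulCommutative (S : Subgroup G)]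
    (c : G) (hcS : c ∈ S) (hc1 : c ≠ 1)
    (hinv : ∀ n ∈ Subgroup.normalizer ((S : Subgroup G) : Set G), n⁻¹ * c * n = c) :
    ∃ H : Subgroup G, H.index = p := by
  have key : ∀ (k : ℕ) (g₀ : G), g₀⁻¹ * c ^ k * g₀ ∈ (S : Subgroup G) → g₀⁻¹ * c ^ k * g₀ = c ^ k := by
    intro k g₀ hk
    obtain ⟨n, hn, h⟩ := S.conj_eq_normalizer_conj_of_mem (c ^ k) g₀ (Subgroup.pow_mem _ hcS k) hk
    rw [h]
    have : n⁻¹ * c ^ k * n = (n⁻¹ * c * n) ^ k := by
      have := conj_pow (a := n⁻¹) (b := c) (i := k)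
      simpa using this.symm
    rw [this, hinv n hn]
  have htr := MonoidHom.transfer_eq_pow (MonoidHom.id (S : Subgroup G)) c key
  apply exists_index_eq_prime_of_hom (p := p) S.2 (MonoidHom.transfer (MonoidHom.id (S : Subgroup G))) c
  rw [htr]
  intro h
  have h1 : c ^ (S : Subgroup G).index = 1 := congrArg Subtype.val h
  obtain ⟨j, hj⟩ := S.2 ⟨c, hcS⟩
  have h2 : c ^ (p ^ j) = 1 := congrArg Subtype.val hj
  have hcop : Nat.Coprime (p ^ j) (S : Subgroup G).index :=
    Nat.Coprime.pow_left j ((Nat.Prime.coprime_iff_not_dvd Fact.out).mpr S.not_dvd_index)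
  exact hc1 (eq_one_of_pow_coprime hcop h2 h1)

end Cfsg.Agent.Lib.Helper8

namespace Cfsg.Agent.Lib.Helper8

open scoped IsMulCommutative

variable {G : Type*} [Group G] [Finite G] {p : ℕ} [Fact p.Prime]

/-- conjugation by an element of the normaliser, as an endomorphism of `S` -/
def cjHom (S : Subgroup G) (n : G) (hn : n ∈ Subgroup.normalizer (S : Set G)) : S →* S where
  toFun x := ⟨n * x * n⁻¹, (Subgroup.mem_normalizer_iff.mp hn x).mp x.2⟩
  map_one' := by apply Subtype.ext; simp
  map_mul' x y := by apply Subtype.ext; simp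

/-- The "norm" of `t ∈ S` under `N_G(S)/S`. -/
theorem exists_norm (S : Sylow p G) [IsMulCommutative (S : Subgroup G)] (t : G) (htS : t ∈ S)
    (A : Subgroup G)
    (hstep : ∀ n ∈ Subgroup.normalizer ((S : Subgroup G) : Set G), (n * t * n⁻¹) * t⁻¹ ∈ A) :
    ∃ c ∈ S, (∀ n ∈ Subgroup.normalizer ((S : Subgroup G) : Set G), n⁻¹ * c * n = c) ∧
      ∃ m : ℕ, ¬ p ∣ m ∧ c * (t ^ m)⁻¹ ∈ A := by
  classical
  set N := Subgroup.normalizer ((S : Subgroup G) : Set G) with hN
  let S' : Subgroup N := (S : Subgroup G).subgroupOf N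
  let ι := N ⧸ S'
  let _ : Fintype ι := Fintype.ofFinite ι
  let tS : (S : Subgroup G) := ⟨t, htS⟩
  let f : ι → (S : Subgroup G) := fun q => cjHom (S : Subgroup G) q.out.1 q.out.2 tS
  let c : (S : Subgroup G) := ∏ q, f q
  have hfn : ∀ (n : N) (q : ι), cjHom (S : Subgroup G) n.1 n.2 (f q) = f (n • q) := by
    intro n q
    have h1 : n • q = QuotientGroup.mk (n * q.out) := by
      conv_lhs => rw [← QuotientGroup.out_eq' q]
      rfl
    obtain ⟨h, hh⟩ := QuotientGroup.mk_out_eq_mul S' (n * q.out)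
    apply Subtype.ext
    show (n : G) * ((q.out : N) * t * ((q.out : N) : G)⁻¹) * (n : G)⁻¹
      = (((n • q).out : N) : G) * t * (((n • q).out : N) : G)⁻¹
    rw [h1, hh]
    have hhS : ((h : N) : G) ∈ (S : Subgroup G) := Subgroup.mem_subgroupOf.mp h.2
    have hcomm : ((h : N) : G) * t = t * ((h : N) : G) := by
      have := mul_comm (⟨_, hhS⟩ : (S : Subgroup G)) tS
      exact congrArg Subtype.val this
    simp only [Subgroup.coe_mul]
    calc (n : G) * ((q.out : N) * t * ((q.out : N) : G)⁻¹) * (n : G)⁻¹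
        = (n : G) * (q.out : N) * (t * ((h : N) : G)) * ((h : N) : G)⁻¹ * ((q.out : N) : G)⁻¹ * (n : G)⁻¹ := by
          group
      _ = (n : G) * (q.out : N) * (((h : N) : G) * t) * ((h : N) : G)⁻¹ * ((q.out : N) : G)⁻¹ * (n : G)⁻¹ := by
          rw [hcomm]
      _ = _ := by group
  have hinv : ∀ n : N, cjHom (S : Subgroup G) n.1 n.2 c = c := by
    intro n
    show cjHom (S : Subgroup G) n.1 n.2 (∏ q, f q) = ∏ q, f q
    rw [map_prod]
    simp_rw [hfn]
    exact Equiv.prod_comp (MulAction.toPerm n) f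
  refine ⟨c, c.2, ?_, Fintype.card ι, ?_, ?_⟩
  · intro n hn
    have := hinv ⟨n⁻¹, N.inv_mem hn⟩
    have h2 := congrArg Subtype.val this
    simpa [cjHom] using h2
  · have h1 : Fintype.card ι = (S : Subgroup G).relIndex N := by
      rw [← Nat.card_eq_fintype_card]; rfl
    rw [h1]
    intro hdvd
    exact S.not_dvd_index (hdvd.trans (Subgroup.relIndex_dvd_index_of_le Subgroup.le_normalizer))
  · let AS : Subgroup (S : Subgroup G) := A.subgroupOf S
    have hgen : ∀ s : Finset ι, (∏ q ∈ s, f q) * (tS ^ s.card)⁻¹ ∈ AS := by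
      intro s
      induction s using Finset.induction_on with
      | empty => simp
      | insert a s ha ih =>
        rw [Finset.prod_insert ha, Finset.card_insert_of_notMem ha, pow_succ]
        have e : f a * (∏ q ∈ s, f q) * (tS ^ s.card * tS)⁻¹
            = (f a * tS⁻¹) * ((∏ q ∈ s, f q) * (tS ^ s.card)⁻¹) := by
          rw [mul_inv]; ac_rfl
        rw [e]
        refine AS.mul_mem ?_ ih
        exact Subgroup.mem_subgroupOf.mpr (hstep _ a.out.2)
    have := hgen Finset.univ
    rw [Finset.card_univ] at this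
    exact Subgroup.mem_subgroupOf.mp this

end Cfsg.Agent.Lib.Helper8
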