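import Mathlib
import Cfsg.Prelude.Def_Transfer
import Cfsg.Prelude.Def_TwoFusion
import Cfsg.Agent.Lib.Helper8.Conj

/-!
# Weakly and strongly closed subgroups
-/

namespace Cfsg.Agent.Lib.Helper8

variable {G : Type*} [Group G] [Finite G] {p : ℕ} [Fact p.Prime]

/-- Two conjugates of a weakly closed subgroup lying in a common `p`-subgroup coincide. -/
theorem weaklyClosed_unique (S : Sylow p G) {W : Subgroup G}
    (hW : Cfsg.IsWeaklyClosed W (S : Subgroup G)) {T : Subgroup G} (hT : IsPGroup p T) {g₁ g₂ : G}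
    (h₁ : cj g₁ W ≤ T) (h₂ : cj g₂ W ≤ T) : cj g₁ W = cj g₂ W := by
  obtain ⟨h, hh⟩ := exists_cj_le_sylow S hT
  have key : ∀ g : G, cj g W ≤ T → cj g W = cj h⁻¹ W := by
    intro g hg
    have h1 : cj (h * g) W ≤ S := by
      rw [← cj_cj]; exact (cj_mono h hg).trans hh
    have h2 := hW.2 (h * g) h1
    change cj (h * g) W = W at h2
    rw [← cj_cj, cj_eq_iff] at h2
    exact h2
  rw [key g₁ h₁, key g₂ h₂]

/-- a strongly closed subgroup is normalised by the Sylow subgroup -/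
theorem stronglyClosed_conj_mem {A P : Subgroup G} (hA : Cfsg.IsStronglyClosed A P) {a s : G}
    (ha : a ∈ A) (hs : s ∈ P) : s * a * s⁻¹ ∈ A :=
  hA.2 a ha s (P.mul_mem (P.mul_mem hs (hA.1 ha)) (P.inv_mem hs))

end Cfsg.Agent.Lib.Helper8
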