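import Mathlib
import Cfsg.Agent.Lib.Helper18.Transfer
import Cfsg.Agent.Lib.Helper8.QDF5

/-!
# The sign of the action on cosets: subgroups of index two from semiregular 2-elements
-/

namespace Cfsg.Agent.Lib.Helper8.SignT

open Equiv.Perm

theorem sign_semiregular {Ω : Type*} [Fintype Ω] [DecidableEq Ω] (σ : Equiv.Perm Ω) (a m : ℕ)
    (ha : 1 ≤ a) (hm : Odd m) (hcard : Fintype.card Ω = 2 ^ a * m) (hσ : σ ^ (2 ^ a) = 1)
    (hfree : ∀ (ω : Ω) (j : ℕ), (σ ^ j) ω = ω → 2 ^ a ∣ j) : sign σ = -1 := by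
  have h1 : ∀ k ∈ σ.cycleType, k = 2 ^ a := by
    intro k hk
    have hk2 : k ∣ 2 ^ a := (dvd_of_mem_cycleType hk).trans (orderOf_dvd_of_pow_eq_one hσ)
    rw [cycleType_def, Multiset.mem_map] at hk
    obtain ⟨c, hc, rfl⟩ := hk
    have hc' : c ∈ σ.cycleFactorsFinset := hc
    have hcyc := (mem_cycleFactorsFinset_iff.mp hc').1
    obtain ⟨x, hx⟩ := hcyc.nonempty_support
    have hcx := cycle_is_cycleOf hx hc'
    have h3 : (σ ^ (c.support.card)) x = x := by
      rw [← cycleOf_pow_apply_self, ← hcx, ← hcyc.orderOf, pow_orderOf_eq_one]; rfl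
    exact Nat.dvd_antisymm hk2 (hfree x _ h3)
  have h2 := Multiset.eq_replicate_card.mpr h1
  have h3 : σ.support = Finset.univ := by
    ext ω
    simp only [mem_support, Finset.mem_univ, iff_true]
    intro h
    have := hfree ω 1 (by rw [pow_one]; exact h)
    have h4 : 2 ^ 1 ∣ 2 ^ a := pow_dvd_pow 2 ha
    have := h4.trans this
    omega
  have h4 : σ.cycleType.sum = 2 ^ a * m := by
    rw [sum_cycleType, h3, Finset.card_univ, hcard]
  have h5 : Multiset.card σ.cycleType = m := by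
    rw [h2, Multiset.sum_replicate, smul_eq_mul, mul_comm] at h4
    exact Nat.eq_of_mul_eq_mul_left (by positivity) h4
  rw [sign_of_cycleType, h4, h5]
  have : Odd (2 ^ a * m + m) := by
    apply Even.add_odd _ hm
    exact Even.mul_right (Nat.even_pow.mpr ⟨even_two, by omega⟩) m
  exact this.neg_one_pow

/-- the sign character of the action on the cosets of `T` -/
theorem exists_sign {X : Type*} [Group X] [Finite X] (T : Subgroup X) :
    ∃ ε : X →* ℤˣ, ∀ (y : X) (a m : ℕ), 1 ≤ a → Odd m → T.index = 2 ^ a * m → y ^ (2 ^ a) = 1 →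
      (∀ (g : X) (j : ℕ), g⁻¹ * y ^ j * g ∈ T → 2 ^ a ∣ j) → ε y = -1 := by
  classical
  haveI : Fintype (X ⧸ T) := Fintype.ofFinite _
  refine ⟨sign.comp (MulAction.toPermHom X (X ⧸ T)), ?_⟩
  intro y a m ha hm hidx hy hfree
  rw [MonoidHom.comp_apply]
  apply sign_semiregular _ a m ha hm
  · rw [← Nat.card_eq_fintype_card]; exact hidx
  · rw [← map_pow, hy, map_one]
  · intro ω j hj
    obtain ⟨g, rfl⟩ := QuotientGroup.mk_surjective ω
    apply hfree g j
    rw [← map_pow] at hj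
    have h1 : (y ^ j) • (g : X ⧸ T) = (g : X ⧸ T) := hj
    rw [MulAction.Quotient.smul_mk, smul_eq_mul] at h1
    have h2 := QuotientGroup.eq.mp h1.symm
    rwa [← mul_assoc] at h2

theorem eq_one_of_odd {X : Type*} [Group X] (ε : X →* ℤˣ) {x : X} (hx : Odd (orderOf x)) :
    ε x = 1 := by
  have h1 : (ε x) ^ orderOf x = 1 := by rw [← map_pow, pow_orderOf_eq_one, map_one]
  rcases Int.units_eq_one_or (ε x) with h | h
  · exact h
  · rw [h, hx.neg_one_pow] at h1
    exact absurd h1 (by decide)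

variable {G : Type*} [Group G] [Finite G]

/-- one step down: a subgroup of index two of `X` -/
theorem step (X T : Subgroup G) :
    ∃ X' : Subgroup G, X' ≤ X ∧ (∀ g ∈ X, Odd (orderOf g) → g ∈ X') ∧
      (∀ g ∈ X, ∀ h ∈ X, g ∉ X' → h ∉ X' → g * h ∈ X') ∧
      ∀ (y : G) (a m : ℕ), y ∈ X → 1 ≤ a → Odd m → T.relIndex X = 2 ^ a * m → y ^ (2 ^ a) = 1 →
        (∀ (g : G) (j : ℕ), g⁻¹ * y ^ j * g ∈ T → 2 ^ a ∣ j) → y ∉ X' ∧ X'.relIndex X = 2 := by
  obtain ⟨ε, hε⟩ := exists_sign (T.subgroupOf X)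
  have hmem : ∀ g (hg : g ∈ X), g ∈ ε.ker.map X.subtype ↔ ε ⟨g, hg⟩ = 1 := by
    intro g hg
    constructor
    · rintro ⟨z, hz, rfl⟩; exact hz
    · intro h; exact ⟨⟨g, hg⟩, h, rfl⟩
  refine ⟨ε.ker.map X.subtype, Subgroup.map_subtype_le _, ?_, ?_, ?_⟩
  · intro g hg hodd
    rw [hmem g hg]
    apply eq_one_of_odd
    rwa [Subgroup.orderOf_mk]
  · intro g hg h hh hg' hh'
    rw [hmem g hg] at hg'
    rw [hmem h hh] at hh'
    rw [hmem _ (mul_mem hg hh)]
    have e1 := (Int.units_eq_one_or (ε ⟨g, hg⟩)).resolve_left hg'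
    have e2 := (Int.units_eq_one_or (ε ⟨h, hh⟩)).resolve_left hh'
    have : (⟨g * h, mul_mem hg hh⟩ : X) = ⟨g, hg⟩ * ⟨h, hh⟩ := rfl
    rw [this, map_mul, e1, e2]; decide
  · intro y a m hy ha hm hidx hya hfree
    have h1 : ε ⟨y, hy⟩ = -1 := by
      apply hε ⟨y, hy⟩ a m ha hm hidx (Subtype.ext hya)
      intro g j hj
      exact hfree g j hj
    refine ⟨?_, ?_⟩
    · rw [hmem y hy, h1]; decide
    · rw [relIndex_map_subtype']
      exact Cfsg.Agent.Lib.Helper18.index_ker_eq_two_of_apply_eq_neg_one ε _ h1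

end Cfsg.Agent.Lib.Helper8.SignT
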