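import Mathlib
import Cfsg.Agent.Lib.Helper8.SignT
import Cfsg.Agent.Fus.Residual

/-!
# A consequence of Thompson transfer: splitting off a dihedral group
-/

namespace Cfsg.Agent.Lib.Helper8.TTD

open Cfsg.Agent.Lib.Helper8

variable {G : Type*} [Group G]

theorem card_mul_relIndex' {H K : Subgroup G} (h : H ≤ K) :
    Nat.card H * H.relIndex K = Nat.card K := by
  have := Subgroup.relIndex_mul_relIndex ⊥ H K bot_le h
  rwa [Subgroup.relIndex_bot_left, Subgroup.relIndex_bot_left] at this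

/-- in a dihedral group the elements outside a cyclic subgroup of index two are involutions -/
theorem dih_outside {D C : Subgroup G} {n : ℕ} (hn : 2 ≤ n) (e : D ≃* DihedralGroup n)
    (hCD : C ≤ D) (hC : IsCyclic C) (hCi : C.relIndex D = 2) :
    ∀ x ∈ D, x ∉ C → orderOf x = 2 := by
  haveI : NeZero n := ⟨by omega⟩
  have hD : Nat.card D = 2 * n := by rw [Nat.card_congr e.toEquiv, DihedralGroup.nat_card]
  have hCn : Nat.card C = n := by
    have := card_mul_relIndex' hCD
    rw [hCi, hD] at this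
    omega
  obtain ⟨γ, hγ⟩ := hC.exists_generator
  have hγo : orderOf γ = n := by rw [orderOf_eq_card_of_forall_mem_zpowers hγ, hCn]
  have hγo' : orderOf (e ⟨γ, hCD γ.2⟩) = n := by
    rw [e.orderOf_eq, Subgroup.orderOf_mk, Subgroup.orderOf_coe, hγo]
  intro x hxD hxC
  have hx : orderOf x = orderOf (e ⟨x, hxD⟩) := by rw [e.orderOf_eq, Subgroup.orderOf_mk]
  rw [hx]
  rcases hex : e ⟨x, hxD⟩ with j | j
  · rcases heγ : e ⟨γ, hCD γ.2⟩ with i | i
    · -- `γ` is a rotation of order `n`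
      exfalso
      rw [heγ] at hγo'
      have h1 : Subgroup.zpowers (DihedralGroup.r i) = Subgroup.zpowers (DihedralGroup.r (1 : ZMod n)) := by
        apply Subgroup.eq_of_le_of_card_ge
        · rw [Subgroup.zpowers_le]
          exact ⟨(i.val : ℤ), by
            show DihedralGroup.r (1 : ZMod n) ^ (i.val : ℤ) = _
            rw [zpow_natCast, DihedralGroup.r_one_pow, ZMod.natCast_zmod_val]⟩
        · rw [Nat.card_zpowers, Nat.card_zpowers, hγo', DihedralGroup.orderOf_r_one]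
      have h2 : DihedralGroup.r j ∈ Subgroup.zpowers (DihedralGroup.r i) := by
        rw [h1]
        exact ⟨(j.val : ℤ), by
          show DihedralGroup.r (1 : ZMod n) ^ (j.val : ℤ) = _
          rw [zpow_natCast, DihedralGroup.r_one_pow, ZMod.natCast_zmod_val]⟩
      obtain ⟨k, hk⟩ := h2
      have hk' : DihedralGroup.r i ^ k = DihedralGroup.r j := hk
      rw [← heγ, ← hex, ← map_zpow] at hk'
      have h3 := congrArg Subtype.val (e.injective hk')
      apply hxC
      have h4 : x = ((γ ^ k : C) : G) := by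
        rw [Subgroup.coe_zpow]
        exact h3.symm
      rw [h4]; exact (γ ^ k).2
    · rw [heγ, DihedralGroup.orderOf_sr] at hγo'
      subst hγo'
      -- `n = 2`
      have h1 : x ≠ 1 := fun h => hxC (h ▸ one_mem C)
      have h2 : (DihedralGroup.r j : DihedralGroup 2) ≠ 1 := by
        rw [← hex]
        intro h
        apply h1
        have := e.injective (h.trans (map_one e).symm)
        exact congrArg Subtype.val this
      rw [orderOf_eq_two_iff']
      refine ⟨h2, ?_⟩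
      rw [DihedralGroup.r_mul_r, CharTwo.add_self_eq_zero]; rfl
  · exact DihedralGroup.orderOf_sr j

theorem exists_invol_pow {w : G} (hw : w ≠ 1) {N : ℕ} (hN : w ^ 2 ^ N = 1) :
    ∃ b : ℕ, orderOf (w ^ 2 ^ b) = 2 := by
  obtain ⟨b, -, hb⟩ := (Nat.dvd_prime_pow Nat.prime_two).mp (orderOf_dvd_of_pow_eq_one hN)
  have hb1 : 1 ≤ b := by
    rcases Nat.eq_zero_or_pos b with h | h
    · rw [h, pow_zero, orderOf_eq_one_iff] at hb; exact absurd hb hw
    · exact h
  refine ⟨b - 1, ?_⟩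
  rw [orderOf_pow_of_dvd (by positivity) (by rw [hb]; exact pow_dvd_pow 2 (by omega)), hb,
    Nat.pow_div (by omega) (by norm_num)]
  have : b - (b - 1) = 1 := by omega
  rw [this, pow_one]

theorem card_eq_of_sylow {L T T' : Subgroup G} (hTL : T ≤ L) (hT2 : IsPGroup 2 T)
    (hTs : ¬ 2 ∣ T.relIndex L) (hTL' : T' ≤ L) (hT2' : IsPGroup 2 T')
    (hTs' : ¬ 2 ∣ T'.relIndex L) [Finite G] : Nat.card T = Nat.card T' := by
  haveI : Fact (Nat.Prime 2) := ⟨Nat.prime_two⟩
  obtain ⟨a, ha⟩ := hT2.exists_card_eq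
  obtain ⟨b, hb⟩ := hT2'.exists_card_eq
  have h1 := card_mul_relIndex' hTL
  have h2 := card_mul_relIndex' hTL'
  have c1 : Nat.Coprime (2 ^ a) (T'.relIndex L) :=
    Nat.Coprime.pow_left a ((Nat.Prime.coprime_iff_not_dvd Nat.prime_two).mpr hTs')
  have c2 : Nat.Coprime (2 ^ b) (T.relIndex L) :=
    Nat.Coprime.pow_left b ((Nat.Prime.coprime_iff_not_dvd Nat.prime_two).mpr hTs)
  rw [ha, hb]
  rw [ha] at h1
  rw [hb] at h2
  apply Nat.dvd_antisymm
  · exact c1.dvd_of_dvd_mul_right (by rw [h2, ← h1]; exact dvd_mul_right _ _)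
  · exact c2.dvd_of_dvd_mul_right (by rw [h1, ← h2]; exact dvd_mul_right _ _)

theorem main [Finite G] (L T S D C : Subgroup G) (hL : Cfsg.pResidual 2 ↥L = ⊤)
    (hTL : T ≤ L) (hT2 : IsPGroup 2 T) (hTsyl : ¬ 2 ∣ T.relIndex L)
    (hS2 : IsPGroup 2 S) (hSsyl : ¬ 2 ∣ S.index) (hTS : T ≤ S)
    (hDS : D ≤ S) (hDih : ∃ n : ℕ, 2 ≤ n ∧ Nonempty (↥D ≃* DihedralGroup n)) (hDT : D ⊓ T = ⊥)
    (hTD : T ⊔ D = S) (hTDc : Nat.card T * Nat.card D = Nat.card S)
    (hCD : C ≤ D) (hC : IsCyclic ↥C) (hCi : C.relIndex D = 2)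
    (h1 : ∀ x ∈ D, x ∉ C → orderOf x = 2 → ∀ g : G, g * x * g⁻¹ ∈ T ⊔ C → False)
    (h2 : ∀ c ∈ C, orderOf c = 2 → ∀ g : G, g * c * g⁻¹ ∈ T → False) :
    ∃ K : Subgroup G, K.Normal ∧ K ⊔ D = ⊤ ∧
      ∀ T' : Subgroup G, T' ≤ L → IsPGroup 2 T' → ¬ 2 ∣ T'.relIndex L →
        T' ≤ K ∧ ¬ 2 ∣ T'.relIndex K := by
  haveI : Fact (Nat.Prime 2) := ⟨Nat.prime_two⟩
  obtain ⟨n, hn, ⟨e⟩⟩ := hDih
  have hout := dih_outside hn e hCD hC hCi
  have hm : Odd S.index := by
    rw [← Nat.not_even_iff_odd, even_iff_two_dvd]; exact hSsyl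
  set m := S.index with hmdef
  have hC2 : IsPGroup 2 C := hS2.to_le (hCD.trans hDS)
  obtain ⟨k, hk⟩ := hC2.exists_card_eq
  have hDcard : Nat.card D = 2 ^ (k + 1) := by
    rw [← card_mul_relIndex' hCD, hCi, hk, pow_succ]
  obtain ⟨γ, hγ⟩ := hC.exists_generator
  have hγo : orderOf (γ : G) = 2 ^ k := by
    rw [Subgroup.orderOf_coe, orderOf_eq_card_of_forall_mem_zpowers hγ, hk]
  set c : G := (γ : G) with hc
  have hcC : c ∈ C := γ.2
  -- the residual
  set K := Cfsg.pResidual 2 G with hK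
  have hKn : K.Normal := Cfsg.Agent.Fus.pResidual_normal' 2 G
  have hLK : L ≤ K := by
    have h3 : (Cfsg.pResidual 2 ↥L).map L.subtype ≤ K := by
      rw [Subgroup.map_le_iff_le_comap]
      unfold Cfsg.pResidual
      rw [Subgroup.closure_le]
      intro g hg
      apply Subgroup.subset_closure
      show Nat.Coprime (orderOf (g : G)) 2
      rw [Subgroup.orderOf_coe]; exact hg
    intro l hl
    apply h3
    exact ⟨⟨l, hl⟩, by rw [hL]; exact Subgroup.mem_top _, rfl⟩
  have hTK : T ≤ K := hTL.trans hLK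
  have hKle : ∀ X X' : Subgroup G, K ≤ X → (∀ g ∈ X, Odd (orderOf g) → g ∈ X') → K ≤ X' := by
    intro X X' hKX hodd
    rw [hK]
    unfold Cfsg.pResidual
    rw [Subgroup.closure_le]
    intro g hg
    exact hodd g (hKX (Subgroup.subset_closure hg)) (Nat.coprime_two_right.mp hg)
  -- `T ⊔ C` has index two in `S`
  obtain ⟨x, hxD, hxC⟩ : ∃ x ∈ D, x ∉ C := by
    by_contra hcon
    push Not at hcon
    have : C.relIndex D = 1 := Subgroup.relIndex_eq_one.mpr hcon
    omega
  have hx2 := hout x hxD hxC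
  have hMS : T ⊔ C ≤ S := sup_le hTS (hCD.trans hDS)
  have hMrel : (T ⊔ C).relIndex S = 2 := by
    have hne : (T ⊔ C).relIndex S ≠ 1 := by
      intro h
      have h3 := Subgroup.relIndex_eq_one.mp h
      exact h1 x hxD hxC hx2 1 (by simpa using h3 (hDS hxD))
    have h3 : Nat.card C ≤ T.relIndex (T ⊔ C) := by
      have h4 : T.relIndex C = Nat.card C := by
        rw [← Subgroup.inf_relIndex_right]
        have : T ⊓ C = ⊥ := by
          rw [eq_bot_iff, ← hDT]
          exact le_inf (inf_le_right.trans hCD) inf_le_left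
        rw [this, Subgroup.relIndex_bot_left]
      rw [← h4]
      apply Subgroup.relIndex_le_of_le_right le_sup_right
      exact (Nat.pos_of_ne_zero (by
        intro h0
        have := card_mul_relIndex' (le_sup_left : T ≤ T ⊔ C)
        rw [h0, mul_zero] at this
        exact Nat.card_pos.ne' this.symm)).ne'
    have h5 := card_mul_relIndex' (le_sup_left : T ≤ T ⊔ C)
    have h6 := card_mul_relIndex' hMS
    have h7 : Nat.card S = 2 * (Nat.card T * Nat.card C) := by
      rw [← hTDc, hDcard, hk, pow_succ]; ring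
    have h8 : Nat.card T * Nat.card C ≤ Nat.card ↥(T ⊔ C) := by
      rw [← h5]; exact Nat.mul_le_mul_left _ h3
    have h9 : 0 < Nat.card ↥(T ⊔ C) := Nat.card_pos
    have h10 : (T ⊔ C).relIndex S ≤ 2 := by
      by_contra hgt
      push Not at hgt
      have : Nat.card ↥(T ⊔ C) * 3 ≤ Nat.card ↥(T ⊔ C) * (T ⊔ C).relIndex S :=
        Nat.mul_le_mul_left _ hgt
      rw [h6, h7] at this
      omega
    have h11 : (T ⊔ C).relIndex S ≠ 0 := by
      intro h0
      rw [h0, mul_zero] at h6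
      exact Nat.card_pos.ne' h6.symm
    omega
  have hTidx : T.index = 2 ^ (k + 1) * m := by
    rw [← Subgroup.relIndex_mul_index hTS]
    congr 1
    have h3 := card_mul_relIndex' hTS
    rw [← hTDc] at h3
    rw [← hDcard]
    exact Nat.eq_of_mul_eq_mul_left Nat.card_pos h3
  -- freeness
  have hfreeC : ∀ w ∈ C, ∀ g : G, g⁻¹ * w * g ∈ T → w = 1 := by
    intro w hw g hg
    by_contra hw1
    obtain ⟨N, hN⟩ := hC2 ⟨w, hw⟩
    have hN' : w ^ 2 ^ N = 1 := congrArg Subtype.val hN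
    obtain ⟨b, hb⟩ := exists_invol_pow hw1 hN'
    apply h2 (w ^ 2 ^ b) (pow_mem hw _) hb g⁻¹
    have : g⁻¹ * w ^ 2 ^ b * g⁻¹⁻¹ = (g⁻¹ * w * g) ^ 2 ^ b := by
      rw [inv_inv]
      have := conj_pow (a := g⁻¹) (b := w) (i := 2 ^ b)
      rw [inv_inv] at this
      exact this.symm
    rw [this]
    exact pow_mem hg _
  -- the first step
  obtain ⟨G₁, -, hodd₁, hprod₁, hy₁⟩ := SignT.step ⊤ (T ⊔ C)
  have hstep1 : ∀ y ∈ D, y ∉ C → y ∉ G₁ ∧ G₁.relIndex ⊤ = 2 := by
    intro y hyD hyC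
    have hy2 := hout y hyD hyC
    apply hy₁ y 1 m (Subgroup.mem_top _) le_rfl hm
    · rw [Subgroup.relIndex_top_right, ← Subgroup.relIndex_mul_index hMS, hMrel, pow_one]
    · rw [pow_one, ← hy2, pow_orderOf_eq_one]
    · intro g j hj
      rw [pow_one]
      by_contra hodd
      have hj' : y ^ j = y := by
        obtain ⟨i, rfl⟩ : Odd j := by
          rw [← Nat.not_even_iff_odd, even_iff_two_dvd]; exact hodd
        rw [pow_succ, pow_mul, ← hy2, pow_orderOf_eq_one, one_pow, one_mul]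
      rw [hj'] at hj
      exact h1 y hyD hyC hy2 g⁻¹ (by rw [inv_inv]; exact hj)
  have hKG₁ : K ≤ G₁ := hKle ⊤ G₁ le_top hodd₁
  have hcG₁ : c ∈ G₁ := by
    have hxc : x⁻¹ * c ∉ C := by
      intro h
      apply hxC
      have := mul_mem hcC (inv_mem h)
      simpa using this
    have h3 := hprod₁ x (Subgroup.mem_top _) (x⁻¹ * c) (Subgroup.mem_top _) (hstep1 x hxD hxC).1
      (hstep1 _ (mul_mem (inv_mem hxD) (hCD hcC)) hxc).1
    simpa using h3
  have chain : ∀ j, j ≤ k → ∃ X : Subgroup G, K ≤ X ∧ T.relIndex X = 2 ^ (k - j) * m ∧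
      c ^ (2 ^ j) ∈ X := by
    intro j
    induction j with
    | zero =>
      intro _
      refine ⟨G₁, hKG₁, ?_, by simpa using hcG₁⟩
      have h3 := Subgroup.relIndex_mul_relIndex T G₁ ⊤ (hTK.trans hKG₁) le_top
      rw [(hstep1 x hxD hxC).2, Subgroup.relIndex_top_right, hTidx] at h3
      rw [Nat.sub_zero]
      exact Nat.eq_of_mul_eq_mul_right (by norm_num : 0 < 2) (h3.trans (by ring))
    | succ j ih =>
      intro hj
      obtain ⟨X, hKX, hrel, hcX⟩ := ih (by omega)
      obtain ⟨X', hX'X, hodd, hprod, hy⟩ := SignT.step X T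
      have hord : orderOf (c ^ 2 ^ j) = 2 ^ (k - j) := by
        rw [orderOf_pow_of_dvd (by positivity) (by rw [hγo]; exact pow_dvd_pow 2 (by omega)), hγo,
          Nat.pow_div (by omega) (by norm_num)]
      obtain ⟨hnot, hidx⟩ := hy (c ^ 2 ^ j) (k - j) m hcX (by omega) hm hrel
        (by rw [← hord, pow_orderOf_eq_one]) (by
          intro g i hi
          rw [← hord]
          apply orderOf_dvd_of_pow_eq_one
          exact hfreeC _ (pow_mem (pow_mem hcC _) _) g hi)
      have hKX' : K ≤ X' := hKle X X' hKX hodd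
      refine ⟨X', hKX', ?_, ?_⟩
      · have h3 := Subgroup.relIndex_mul_relIndex T X' X (hTK.trans hKX') hX'X
        rw [hidx, hrel] at h3
        have e1 : 2 ^ (k - j) = 2 ^ (k - (j + 1)) * 2 := by
          rw [← pow_succ]; congr 1; omega
        rw [e1] at h3
        exact Nat.eq_of_mul_eq_mul_right (by norm_num : 0 < 2) (h3.trans (by ring))
      · rw [pow_succ, pow_mul, pow_two]
        exact hprod _ hcX _ hcX hnot hnot
  obtain ⟨X, hKX, hrel, -⟩ := chain k le_rfl
  rw [Nat.sub_self, pow_zero, one_mul] at hrel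
  refine ⟨K, hKn, ?_, ?_⟩
  · rw [eq_top_iff]
    intro g _
    obtain ⟨b, hb, u, hu, rfl⟩ := Cfsg.Agent.Fus.exists_mul_pResidual_sylow (hS2.toSylow hSsyl) g
    have hu' : u ∈ S := hu
    rw [← hTD] at hu'
    have h3 : T ⊔ D ≤ K ⊔ D := sup_le (hTK.trans le_sup_left) le_sup_right
    exact mul_mem (Subgroup.mem_sup_left hb) (h3 hu')
  · intro T' hT'L hT'2 hT'syl
    refine ⟨hT'L.trans hLK, ?_⟩
    have hcard := card_eq_of_sylow hTL hT2 hTsyl hT'L hT'2 hT'syl
    have h3 := card_mul_relIndex' hTK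
    have h4 := card_mul_relIndex' (hT'L.trans hLK)
    rw [← hcard, ← h3] at h4
    have h5 : T'.relIndex K = T.relIndex K := Nat.eq_of_mul_eq_mul_left Nat.card_pos h4
    rw [h5]
    intro hdvd
    have h6 := Subgroup.relIndex_mul_relIndex T K X hTK hKX
    have h7 : 2 ∣ m := by rw [← hrel, ← h6]; exact hdvd.mul_right _
    exact hSsyl h7

end Cfsg.Agent.Lib.Helper8.TTD
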