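import Cfsg.Agent.Lib.Helper8.ZS14

/-!
# Strongly closed 2-subgroups acting on core-free subgroups (helper8)
-/

set_option autoImplicit false

namespace Cfsg.Agent.Lib.Helper8.ZS

open Cfsg Cfsg.Agent.Lib.Helper8
open scoped Pointwise

universe u

variable {G : Type u} [Group G] [Finite G]

omit [Finite G] in
theorem exists_mul_of_mem_sup' {N K : Subgroup G} (h : K ≤ Subgroup.normalizer (N : Set G)) {x : G}
    (hx : x ∈ N ⊔ K) : ∃ n ∈ N, ∃ k ∈ K, x = n * k := by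
  have h1 : x ∈ ((N ⊔ K : Subgroup G) : Set G) := hx
  rw [Subgroup.coe_mul_of_right_le_normalizer_left N K h] at h1
  obtain ⟨n, hn, k, hk, rfl⟩ := h1
  exact ⟨n, hn, k, hk, rfl⟩

omit [Finite G] in
theorem mem_sylow_smul {p : ℕ} (g x : G) (P : Sylow p G) : x ∈ g • P ↔ g⁻¹ * x * g ∈ P := by
  show x ∈ ((g • P : Sylow p G) : Subgroup G) ↔ _
  rw [sylow_smul_coe, mem_cj]
  rfl

/-- if `H ≤ Y` is normalised by `Y` and `O(H) = 1` then `O(Y) ∩ H = 1`. -/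
theorem eq_one_of_mem_core_of_mem {Y H : Subgroup G} (hHY : H ≤ Y)
    (hn : Y ≤ Subgroup.normalizer (H : Set G)) (hO : pPrimeCore 2 H = ⊥) {x : G} (hxH : x ∈ H)
    (hx : (⟨x, hHY hxH⟩ : Y) ∈ pPrimeCore 2 Y) : x = 1 := by
  haveI hKn : (H.subgroupOf Y).Normal := by
    constructor
    intro k hk y
    rw [Subgroup.mem_subgroupOf] at hk ⊢
    exact (Subgroup.mem_normalizer_iff.1 (hn y.2) _).1 hk
  have h1 := Cfsg.H9.map_pPrimeCore_subnormal 2 (hKn.isSubnormal)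
  have h2 := Cfsg.H9.map_pPrimeCore 2 (Subgroup.subgroupOfEquivOfLe hHY)
  rw [hO, Subgroup.map_eq_bot_iff_of_injective _ (Subgroup.subgroupOfEquivOfLe hHY).injective] at h2
  rw [h2, Subgroup.map_bot] at h1
  have h3 : (⟨x, hHY hxH⟩ : Y) ∈ pPrimeCore 2 Y ⊓ H.subgroupOf Y :=
    ⟨hx, Subgroup.mem_subgroupOf.2 hxH⟩
  rw [← h1, Subgroup.mem_bot] at h3
  exact congrArg Subtype.val h3

/-- S1251 -/
theorem strongly_closed_centralizes (S : Sylow 2 G) (A : Subgroup G)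
    (hA : IsStronglyClosed A (S : Subgroup G)) (H : Subgroup G)
    (hAH : A ≤ Subgroup.normalizer (H : Set G)) (hO : pPrimeCore 2 H = ⊥) (hdisj : A ⊓ H = ⊥) :
    A ≤ Subgroup.centralizer (H : Set G) := by
  haveI : Fact (Nat.Prime 2) := ⟨Nat.prime_two⟩
  have hAHone : ∀ x : G, x ∈ A → x ∈ H → x = 1 := by
    intro x h1 h2
    have : x ∈ A ⊓ H := ⟨h1, h2⟩
    rwa [hdisj, Subgroup.mem_bot] at this
  set X : Subgroup G := H ⊔ A with hX
  have hA2 : IsPGroup 2 A := S.2.to_le hA.1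
  obtain ⟨T', hT'⟩ := (hA2.comap_subtype (K := X)).exists_le_sylow
  set T : Subgroup G := (T' : Subgroup X).map X.subtype with hT
  have hAT : A ≤ T := by
    intro a ha
    exact ⟨⟨a, Subgroup.mem_sup_right ha⟩, hT' (Subgroup.mem_subgroupOf.2 ha), rfl⟩
  have hT2 : IsPGroup 2 T := T'.2.map _
  obtain ⟨g, hg⟩ := exists_cj_le_sylow S hT2
  have hgA : cj g A = A := by
    apply cj_eq_of_le
    rintro _ ⟨a, ha, rfl⟩
    exact hA.2 a ha g (hg (conj_mem_cj (hAT ha)))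
  have star : ∀ x ∈ A, ∀ y : G, y * x * y⁻¹ ∈ T → y * x * y⁻¹ ∈ A := by
    intro x hx y hy
    have h1 : g * (y * x * y⁻¹) * g⁻¹ ∈ S := hg (conj_mem_cj hy)
    have e : g * (y * x * y⁻¹) * g⁻¹ = (g * y) * x * (g * y)⁻¹ := by group
    rw [e] at h1
    have h2 := hA.2 x hx _ h1
    rw [← e] at h2
    rw [← hgA, mem_cj] at h2
    have e2 : g⁻¹ * (g * (y * x * y⁻¹) * g⁻¹) * g = y * x * y⁻¹ := by group
    rwa [e2] at h2
  intro a ha
  have haN : Subgroup.zpowers a ≤ Subgroup.normalizer (H : Set G) :=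
    (Subgroup.zpowers_le).2 (hAH ha)
  set Y : Subgroup G := H ⊔ Subgroup.zpowers a with hY
  have hHY : H ≤ Y := le_sup_left
  have haY : a ∈ Y := Subgroup.mem_sup_right (Subgroup.mem_zpowers a)
  have hYX : Y ≤ X := sup_le le_sup_left ((Subgroup.zpowers_le).2 (Subgroup.mem_sup_right ha))
  have hYN : Y ≤ Subgroup.normalizer (H : Set G) := sup_le Subgroup.le_normalizer haN
  -- conjugates of powers of `a` under `Y`
  have key : ∀ y ∈ Y, ∀ j : ℕ, y * a ^ j * y⁻¹ ∈ T → y * a ^ j * y⁻¹ = a ^ j := by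
    intro y hy j hyT
    have haj : a ^ j ∈ A := Subgroup.pow_mem _ ha j
    have h1 := star _ haj y hyT
    obtain ⟨h, hh, k, hk, rfl⟩ := exists_mul_of_mem_sup' haN hy
    obtain ⟨i, rfl⟩ := Subgroup.mem_zpowers_iff.1 hk
    have e1 : h * a ^ i * a ^ j * (h * a ^ i)⁻¹ = h * a ^ j * h⁻¹ := by
      have hc : a ^ i * a ^ j = a ^ j * a ^ i := by
        rw [← zpow_natCast a j, ← zpow_add, ← zpow_add, add_comm]
      calc h * a ^ i * a ^ j * (h * a ^ i)⁻¹ = h * (a ^ i * a ^ j) * (a ^ i)⁻¹ * h⁻¹ := by group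
        _ = h * a ^ j * h⁻¹ := by rw [hc]; group
    rw [e1] at h1 ⊢
    have h2 : h * a ^ j * h⁻¹ * (a ^ j)⁻¹ ∈ H := by
      have h3 : a ^ j * h⁻¹ * (a ^ j)⁻¹ ∈ H :=
        (Subgroup.mem_normalizer_iff.1 (hAH haj) _).1 (inv_mem hh)
      have e : h * a ^ j * h⁻¹ * (a ^ j)⁻¹ = h * (a ^ j * h⁻¹ * (a ^ j)⁻¹) := by group
      rw [e]; exact mul_mem hh h3
    exact mul_inv_eq_one.1 (hAHone _ (mul_mem h1 (inv_mem haj)) h2)
  -- a Sylow 2-subgroup of `Y` containing `a` and contained in `T`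
  have haz : IsPGroup 2 ((Subgroup.zpowers a).subgroupOf Y) :=
    (hA2.to_le ((Subgroup.zpowers_le).2 ha)).comap_subtype
  obtain ⟨Q, hQ⟩ := haz.exists_le_sylow
  have haQ : (⟨a, haY⟩ : Y) ∈ Q := hQ (Subgroup.mem_subgroupOf.2 (Subgroup.mem_zpowers a))
  -- conjugate `Q` into `T`
  have hQ2 : IsPGroup 2 (((Q : Subgroup Y).map Y.subtype).subgroupOf X) :=
    (Q.2.map Y.subtype).comap_subtype
  obtain ⟨Q', hQ'⟩ := hQ2.exists_le_sylow
  obtain ⟨c, hc⟩ := MulAction.exists_smul_eq X Q' T'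
  have hcQ : ∀ q ∈ (Q : Subgroup Y), (c : G) * (q : G) * (c : G)⁻¹ ∈ T := by
    intro q hq
    have h1 : (⟨(q : G), hYX q.2⟩ : X) ∈ Q' := hQ' (Subgroup.mem_subgroupOf.2 ⟨q, hq, rfl⟩)
    have h2 : c * ⟨(q : G), hYX q.2⟩ * c⁻¹ ∈ T' := by
      rw [← hc, mem_sylow_smul]  
      simpa [mul_assoc] using h1
    exact ⟨_, h2, rfl⟩
  obtain ⟨h, hh, b, hb, hcb⟩ := exists_mul_of_mem_sup' hAH c.2
  -- we rather need `c = b' * h'`
  have hc' : ∃ b' ∈ A, ∃ h' ∈ H, (c : G) = b' * h' := by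
    refine ⟨b, hb, b⁻¹ * h * b, ?_, by rw [hcb]; group⟩
    have := (Subgroup.mem_normalizer_iff.1 (hAH (inv_mem hb)) h).1 hh
    simpa using this
  obtain ⟨b', hb', h', hh', hcb'⟩ := hc'
  have hhQ : ∀ q ∈ (Q : Subgroup Y), h' * (q : G) * h'⁻¹ ∈ T := by
    intro q hq
    have h1 := hcQ q hq
    rw [hcb'] at h1
    have e : h' * (q : G) * h'⁻¹ = b'⁻¹ * (b' * h' * (q : G) * (b' * h')⁻¹) * b' := by group
    rw [e]
    exact mul_mem (mul_mem (inv_mem (hAT hb')) h1) (hAT hb')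
  set hY' : Y := ⟨h', hHY hh'⟩ with hhY'
  set Q₁ : Sylow 2 Y := hY' • Q with hQ₁
  have hQ₁T : ∀ q ∈ Q₁, (q : G) ∈ T := by
    intro q hq
    rw [hQ₁, mem_sylow_smul] at hq
    have h1 := hhQ _ hq
    have e : h' * ((hY'⁻¹ * q * hY' : Y) : G) * h'⁻¹ = q := by
      show h' * (h'⁻¹ * (q : G) * h') * h'⁻¹ = q
      group
    rwa [e] at h1
  have haQ₁ : (⟨a, haY⟩ : Y) ∈ Q₁ := by
    have h1 := hhQ _ haQ
    have h2 := key h' (hHY hh') 1 (by simpa using h1)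
    rw [hQ₁, mem_sylow_smul]
    have e : hY'⁻¹ * (⟨a, haY⟩ : Y) * hY' = ⟨a, haY⟩ := by
      apply Subtype.ext
      show h'⁻¹ * a * h' = a
      have h3 : h' * a * h'⁻¹ = a := by simpa using h2
      calc h'⁻¹ * a * h' = h'⁻¹ * (h' * a * h'⁻¹) * h' := by rw [h3]
        _ = a := by group
    rw [e]; exact haQ
  have hWC : WC Q₁ (⟨a, haY⟩ : Y) := by
    intro j y hy
    apply Subtype.ext
    exact key y y.2 j (hQ₁T _ hy)
  rw [Subgroup.mem_centralizer_iff]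
  intro x hx
  have h1 := gen_zstar Q₁ (⟨a, haY⟩ : Y) haQ₁ hWC ⟨x, hHY hx⟩
  have h2 : a * x * a⁻¹ * x⁻¹ ∈ H :=
    mul_mem ((Subgroup.mem_normalizer_iff.1 (hAH ha) x).1 hx) (inv_mem hx)
  have h3 := eq_one_of_mem_core_of_mem hHY hYN hO h2 h1
  have h4 : a * x * a⁻¹ = x := mul_inv_eq_one.1 h3
  calc x * a = (a * x * a⁻¹) * a := by rw [h4]
    _ = a * x := by group

end Cfsg.Agent.Lib.Helper8.ZS
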